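import Mathlib.FieldTheory.PrimitiveElement
import Mathlib.FieldTheory.Galois.Basic
import Mathlib.Algebra.Polynomial.Roots
import Mathlib.Algebra.Polynomial.BigOperators

/-!
# Multiplicative independence of the automorphisms of a finite Galois extension of an infinite field
-/

set_option autoImplicit false

namespace Groth.Agent.Agf.H606.NormInd

open Polynomial

/-- If `k` is infinite, `K/k` finite separable and the product of the integral powers of the conjugates of every
non-zero `x` is `1`, then all the exponents vanish. -/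
theorem eq_zero_of_prod_eq_one {k K : Type*} [Field k] [Infinite k] [Field K] [Algebra k K]
    [FiniteDimensional k K] [Algebra.IsSeparable k K] [Fintype (K ≃ₐ[k] K)] (n : (K ≃ₐ[k] K) → ℤ)
    (h : ∀ x : Kˣ, ∏ σ : K ≃ₐ[k] K, (Units.map (σ : K →* K) x) ^ (n σ) = 1) (σ₀ : K ≃ₐ[k] K) : n σ₀ = 0 := by
  classical
  obtain ⟨θ, hθ⟩ := Field.exists_primitive_element k K
  have hinj : ∀ σ τ : K ≃ₐ[k] K, σ θ = τ θ → σ = τ := by
    intro σ τ hστ
    have h0 : Algebra.adjoin k {θ} = ⊤ := by
      rw [← IntermediateField.adjoin_simple_toSubalgebra_of_isAlgebraic (IsAlgebraic.of_finite k θ), hθ,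
        IntermediateField.top_toSubalgebra]
    have h1 : (σ : K →ₐ[k] K) = (τ : K →ₐ[k] K) := by
      refine AlgHom.ext_of_adjoin_eq_top h0 ?_
      rintro x rfl
      exact hστ
    ext x
    exact DFunLike.congr_fun h1 x
  let P : K[X] := ∏ σ : K ≃ₐ[k] K, (X + C (σ θ)) ^ (n σ).toNat
  let Q : K[X] := ∏ σ : K ≃ₐ[k] K, (X + C (σ θ)) ^ (-n σ).toNat
  have hev : ∀ a : k, algebraMap k K a + θ ≠ 0 → P.eval (algebraMap k K a) = Q.eval (algebraMap k K a) := by
    intro a ha
    have h1 := h (Units.mk0 _ ha)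
    have h2 : (∏ σ : K ≃ₐ[k] K, (algebraMap k K a + σ θ) ^ (n σ)) = 1 := by
      have h3 := congrArg (Units.val) h1
      rw [Units.coe_prod] at h3
      rw [Units.val_one] at h3
      rw [← h3]
      refine Finset.prod_congr rfl fun σ _ => ?_
      rw [Units.val_zpow_eq_zpow_val]
      simp
    have hne : ∀ σ : K ≃ₐ[k] K, algebraMap k K a + σ θ ≠ 0 := by
      intro σ hσ
      apply ha
      apply σ.injective
      rw [map_add, AlgEquiv.commutes, hσ, map_zero]
    have h4 : P.eval (algebraMap k K a) / Q.eval (algebraMap k K a) = 1 := by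
      rw [← h2]
      simp only [P, Q, eval_prod, eval_pow, eval_add, eval_X, eval_C]
      rw [← Finset.prod_div_distrib]
      refine Finset.prod_congr rfl fun σ _ => ?_
      rw [← zpow_natCast, ← zpow_natCast, ← zpow_sub₀ (hne σ)]
      congr 1
      omega
    have hQ : Q.eval (algebraMap k K a) ≠ 0 := by
      simp only [Q, eval_prod, eval_pow, eval_add, eval_X, eval_C]
      exact Finset.prod_ne_zero_iff.mpr fun σ _ => pow_ne_zero _ (hne σ)
    rwa [div_eq_one_iff_eq hQ] at h4
  have hPQ : P = Q := by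
    apply Polynomial.eq_of_infinite_eval_eq
    have h1 : (Set.range (algebraMap k K) \ {-θ}).Infinite := by
      refine Set.Infinite.sdiff ?_ (Set.finite_singleton _)
      exact Set.infinite_range_of_injective (algebraMap k K).injective
    refine h1.mono ?_
    rintro _ ⟨⟨a, rfl⟩, ha⟩
    apply hev
    intro h2
    apply ha
    rw [Set.mem_singleton_iff]
    exact eq_neg_of_add_eq_zero_left h2
  have hroot : ∀ (m : (K ≃ₐ[k] K) → ℕ), (∏ σ : K ≃ₐ[k] K, (X + C (σ θ)) ^ (m σ)).eval (-(σ₀ θ)) = 0 ↔ m σ₀ ≠ 0 := by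
    intro m
    simp only [eval_prod, eval_pow, eval_add, eval_X, eval_C]
    rw [Finset.prod_eq_zero_iff]
    constructor
    · rintro ⟨σ, -, hσ⟩
      have h1 : -(σ₀ θ) + σ θ = 0 := by
        by_contra h2
        exact pow_ne_zero _ h2 hσ
      have h2 : σ = σ₀ := hinj _ _ (by
        have := eq_neg_of_add_eq_zero_right h1
        rwa [neg_neg] at this)
      subst h2
      intro h3
      rw [h3, pow_zero] at hσ
      exact one_ne_zero hσ
    · intro hm
      exact ⟨σ₀, Finset.mem_univ _, by rw [neg_add_cancel, zero_pow hm]⟩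
  have h5 := (hroot fun σ => (n σ).toNat)
  have h6 := (hroot fun σ => (-n σ).toNat)
  have h7 : ((n σ₀).toNat ≠ 0) ↔ ((-n σ₀).toNat ≠ 0) := by
    rw [← h5, ← h6]
    change P.eval _ = 0 ↔ Q.eval _ = 0
    rw [hPQ]
  omega

end Groth.Agent.Agf.H606.NormInd
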