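import Groth.Agent.Agf.H606.NormInd
import Groth.Agent.Sga3A.MTBasis
import Mathlib.LinearAlgebra.LinearIndependent.Basic

/-!
# Rational points of a torus over an infinite field: algebraic form

`exists_algHom_ne_zero`: `A` a Hopf algebra over the infinite field `k` which has a basis of group-like elements
indexed by a group `M` over the finite Galois extension `K` of `k`, where the homomorphisms `M → ℤ` separate
the elements of `M`. Then every non-zero element of `A` is non-zero at some `k`-point.
-/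

set_option autoImplicit false

open TensorProduct

namespace Groth.Agent.Agf.H606.TorDense

open Groth.Agent.Sga3A.MTBasis

variable {k K A M : Type*} [Field k] [Field K] [Algebra k K] [CommRing A] [Bialgebra k A] [CommGroup M]
  (g : GBasis K (K ⊗[k] A) M)

lemma exists_act (σ : K ≃ₐ[k] K) (m : M) : ∃ m', bc A (σ : K →ₐ[k] K) (g.b m) = g.b m' :=
  g.exists_eq (isGroupLikeElem_bc _ (g.gl m))

/-- the action of the automorphisms on the characters -/
noncomputable def act (σ : K ≃ₐ[k] K) : M →* M where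
  toFun m := (exists_act g σ m).choose
  map_one' := by
    apply g.b_injective
    rw [← (exists_act g σ 1).choose_spec, g.one, map_one]
  map_mul' m n := by
    apply g.b_injective
    have h1 := (exists_act g σ (m * n)).choose_spec
    have h2 := (exists_act g σ m).choose_spec
    have h3 := (exists_act g σ n).choose_spec
    refine h1.symm.trans ?_
    rw [g.mul, map_mul]
    exact (congrArg₂ (· * ·) h2 h3).trans (g.mul _ _).symm

lemma bc_b (σ : K ≃ₐ[k] K) (m : M) : bc A (σ : K →ₐ[k] K) (g.b m) = g.b (act g σ m) :=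
  (exists_act g σ m).choose_spec

lemma act_act (σ τ : K ≃ₐ[k] K) (m : M) : act g σ (act g τ m) = act g (σ * τ) m := by
  apply g.b_injective
  rw [← bc_b, ← bc_b, ← bc_b, bc_bc]
  rfl

lemma act_one (m : M) : act g 1 m = m := by
  apply g.b_injective
  rw [← bc_b]
  have h : ((1 : K ≃ₐ[k] K) : K →ₐ[k] K) = AlgHom.id k K := rfl
  rw [h]
  change Algebra.TensorProduct.map (AlgHom.id k K) (AlgHom.id k A) _ = _
  rw [Algebra.TensorProduct.map_id]
  rfl

section norm

variable [Fintype (K ≃ₐ[k] K)]

/-- the norm of a character -/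
noncomputable def nrm (χ : M →* Kˣ) : M →* Kˣ where
  toFun m := ∏ σ : K ≃ₐ[k] K, Units.map (σ : K →* K) (χ (act g σ⁻¹ m))
  map_one' := by simp
  map_mul' m n := by
    simp only [map_mul]
    rw [Finset.prod_mul_distrib]

lemma nrm_apply (χ : M →* Kˣ) (m : M) :
    nrm g χ m = ∏ σ : K ≃ₐ[k] K, Units.map (σ : K →* K) (χ (act g σ⁻¹ m)) := rfl

lemma map_nrm (τ : K ≃ₐ[k] K) (χ : M →* Kˣ) (m : M) :
    Units.map (τ : K →* K) (nrm g χ m) = nrm g χ (act g τ m) := by
  rw [nrm_apply, nrm_apply, map_prod]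
  refine Fintype.prod_equiv (Equiv.mulLeft τ) _ _ fun σ => ?_
  rw [act_act]
  have h : (Equiv.mulLeft τ) σ = τ * σ := rfl
  rw [h, mul_inv_rev, inv_mul_cancel_right]
  ext
  rfl

/-- as a homomorphism in the character -/
noncomputable def psi (m : M) : (M →* Kˣ) →* K where
  toFun χ := (nrm g χ m : Kˣ)
  map_one' := by simp [nrm_apply]
  map_mul' χ χ' := by
    rw [← Units.val_mul]
    congr 1
    simp only [nrm_apply, MonoidHom.mul_apply, map_mul]
    rw [Finset.prod_mul_distrib]

lemma psi_apply (m : M) (χ : M →* Kˣ) : psi g m χ = (nrm g χ m : Kˣ) := rfl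

/-- the character given by a cocharacter and a unit -/
def chr (c : M →* Multiplicative ℤ) (x : Kˣ) : M →* Kˣ := (zpowersHom Kˣ x).comp c

lemma chr_apply (c : M →* Multiplicative ℤ) (x : Kˣ) (m : M) : chr c x m = x ^ (c m).toAdd := rfl

lemma psi_injective [Infinite k] [FiniteDimensional k K] [Algebra.IsSeparable k K]
    (hM : ∀ m : M, (∀ c : M →* Multiplicative ℤ, c m = 1) → m = 1) : Function.Injective (psi g) := by
  intro m m' h
  suffices h1 : m * m'⁻¹ = 1 by exact mul_inv_eq_one.mp h1
  apply hM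
  intro c
  have h2 : ∀ x : Kˣ, nrm g (chr c x) (m * m'⁻¹) = 1 := by
    intro x
    rw [map_mul, map_inv, mul_inv_eq_one]
    exact Units.ext (DFunLike.congr_fun h (chr c x))
  have h3 := NormInd.eq_zero_of_prod_eq_one (k := k) (K := K)
    (fun σ => (c (act g σ⁻¹ (m * m'⁻¹))).toAdd) (fun x => by
      rw [← h2 x, nrm_apply]
      refine Finset.prod_congr rfl fun σ _ => ?_
      rw [chr_apply, map_zpow]) 1
  rw [inv_one, act_one] at h3
  exact h3

/-- the `K`-point given by a character -/
noncomputable def pt (ψ : M →* Kˣ) : K ⊗[k] A →ₐ[K] K :=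
  (MonoidAlgebra.lift K K M ((Units.coeHom K).comp ψ)).comp (g.bialgEquiv.symm : K ⊗[k] A ≃ₐ[K] MonoidAlgebra K M)

lemma pt_b (ψ : M →* Kˣ) (m : M) : pt g ψ (g.b m) = (ψ m : Kˣ) := by
  have h : g.bialgEquiv.symm (g.b m) = MonoidAlgebra.single m 1 := by
    apply g.bialgEquiv.injective
    have h1 : g.bialgEquiv (MonoidAlgebra.single m 1) = g.b m := by
      rw [GBasis.bialgEquiv_single, one_smul]
    exact (g.bialgEquiv.apply_symm_apply (g.b m)).trans h1.symm
  change MonoidAlgebra.lift K K M ((Units.coeHom K).comp ψ) (g.bialgEquiv.symm (g.b m)) = _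
  rw [h, MonoidAlgebra.lift_single, one_smul]
  rfl

lemma pt_nrm_bc (χ : M →* Kˣ) (τ : K ≃ₐ[k] K) (x : K ⊗[k] A) :
    pt g (nrm g χ) (bc A (τ : K →ₐ[k] K) x) = τ (pt g (nrm g χ) x) := by
  rw [← g.b.linearCombination_repr x, Finsupp.linearCombination_apply, Finsupp.sum, map_sum, map_sum, map_sum,
    map_sum]
  refine Finset.sum_congr rfl fun m _ => ?_
  rw [bc_smul, map_smul, map_smul, smul_eq_mul, smul_eq_mul, map_mul, bc_b, pt_b, pt_b, ← map_nrm]
  rfl

end norm

include g in
/-- **Density of the rational points, algebraic form.** -/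
theorem exists_algHom_ne_zero [Infinite k] [FiniteDimensional k K] [IsGalois k K]
    (hM : ∀ m : M, (∀ c : M →* Multiplicative ℤ, c m = 1) → m = 1) (f : A) (hf : f ≠ 0) :
    ∃ φ : A →ₐ[k] k, φ f ≠ 0 := by
  classical
  let _ : Fintype (K ≃ₐ[k] K) := Fintype.ofFinite _
  have hli : LinearIndependent K (fun m : M => (psi g m : (M →* Kˣ) → K)) := by
    have h1 := linearIndependent_monoidHom (M →* Kˣ) K
    exact h1.comp (psi g) (psi_injective g hM)
  have h1 : ∃ χ : M →* Kˣ, pt g (nrm g χ) ((1 : K) ⊗ₜ[k] f) ≠ 0 := by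
    by_contra hcon
    push Not at hcon
    apply hf
    have h2 : (1 : K) ⊗ₜ[k] f = 0 := by
      apply g.b.repr.injective
      rw [map_zero]
      have h3 := linearIndependent_iff.mp hli (g.b.repr ((1 : K) ⊗ₜ[k] f))
      apply h3
      ext χ
      rw [Finsupp.linearCombination_apply, Finsupp.sum]
      have h4 := hcon χ
      rw [← g.b.linearCombination_repr ((1 : K) ⊗ₜ[k] f), Finsupp.linearCombination_apply, Finsupp.sum,
        map_sum] at h4
      rw [Finset.sum_apply, Pi.zero_apply, ← h4]
      refine Finset.sum_congr rfl fun m _ => ?_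
      rw [map_smul, pt_b]
      rfl
    have h5 : Function.Injective (Algebra.TensorProduct.includeRight : A →ₐ[k] K ⊗[k] A) :=
      Algebra.TensorProduct.includeRight_injective (algebraMap k K).injective
    exact h5 (by rw [map_zero]; exact h2)
  obtain ⟨χ, hχ⟩ := h1
  let φK : A →ₐ[k] K := ((pt g (nrm g χ)).restrictScalars k).comp Algebra.TensorProduct.includeRight
  have h6 : ∀ a, ∃ c : k, algebraMap k K c = φK a := by
    intro a
    have h7 : φK a ∈ (⊥ : IntermediateField k K) := by
      rw [IsGalois.mem_bot_iff_fixed]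
      intro τ
      have h8 := pt_nrm_bc g χ τ ((1 : K) ⊗ₜ[k] a)
      rw [bc_tmul] at h8
      have h9 : (τ : K →ₐ[k] K) 1 = 1 := map_one _
      rw [h9] at h8
      exact h8.symm
    exact IntermediateField.mem_bot.mp h7
  let e : k ≃ₐ[k] (⊥ : Subalgebra k K) := (Algebra.botEquivOfInjective (algebraMap k K).injective).symm
  refine ⟨(e.symm : (⊥ : Subalgebra k K) →ₐ[k] k).comp (φK.codRestrict ⊥ fun a => ?_), ?_⟩
  · obtain ⟨c, hc⟩ := h6 a
    rw [← hc]
    exact Subalgebra.algebraMap_mem _ _
  · intro h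
    apply hχ
    change e.symm (φK.codRestrict ⊥ _ f) = 0 at h
    rw [EmbeddingLike.map_eq_zero_iff] at h
    exact congrArg Subtype.val h

end Groth.Agent.Agf.H606.TorDense
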