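import Groth.Agent.Agf.H606.TorDense
import Groth.Agent.Sga3B.TorusEtLoc920
import Mathlib.FieldTheory.Normal.Closure
import Mathlib.FieldTheory.IsSepClosed
import Mathlib.RingTheory.Unramified.Field

/-!
# Rational points of a torus over an infinite field: scheme form

* `exists_gbasis`: a torus over a field is split over a finite Galois extension;
* `eq_zero_of_forall_point`: a function on a torus over an infinite field vanishing at all rational points is zero;
* `exists_point_mem`: a nonempty open subset of a torus over an infinite field has a rational point.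
-/

set_option autoImplicit false

universe u

open CategoryTheory MonoidalCategory CartesianMonoidalCategory MonObj GrpObj AlgebraicGeometry Limits
open TensorProduct
open Groth.Agent.Books.AffBridge Groth.Agent.Sga3A Groth.Agent.Sga3A.MTBasis

namespace Groth.Agent.Agf.H606.TorDenseSch

open Groth.Agent.Sga3B

/-- a finite Galois extension containing an etale algebra -/
lemma exists_galois (k : Type u) [Field k] (B : Type u) [CommRing B] [Nontrivial B] [Algebra k B]
    [Algebra.Etale k B] :
    ∃ (K : Type u) (_ : Field K) (_ : Algebra k K) (_ : FiniteDimensional k K) (_ : IsGalois k K),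
      Nonempty (B →ₐ[k] K) := by
  obtain ⟨q, hq⟩ := Ideal.exists_maximal B
  let _ : Field (B ⧸ q) := Ideal.Quotient.field q
  have h1 : Algebra.FormallyUnramified k (B ⧸ q) :=
    Algebra.FormallyUnramified.of_surjective (Ideal.Quotient.mkₐ k q) Ideal.Quotient.mk_surjective
  have h2 : Algebra.FiniteType k (B ⧸ q) := inferInstance
  have h3 : Module.Finite k (B ⧸ q) := Algebra.FormallyUnramified.finite_of_free k (B ⧸ q)
  have h4 : Algebra.IsSeparable k (B ⧸ q) := Algebra.FormallyUnramified.isSeparable k (B ⧸ q)
  let Ω := SeparableClosure k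
  let j : (B ⧸ q) →ₐ[k] Ω := IsSepClosed.lift
  let _ : Algebra (B ⧸ q) Ω := j.toRingHom.toAlgebra
  have _ : IsScalarTower k (B ⧸ q) Ω := .of_algebraMap_eq' j.comp_algebraMap.symm
  let E := IntermediateField.normalClosure k (B ⧸ q) Ω
  have h5 : FiniteDimensional k E := inferInstance
  have h6 : IsGalois k E := IsGalois.normalClosure k (B ⧸ q) Ω
  refine ⟨E, inferInstance, inferInstance, h5, h6, ⟨?_⟩⟩
  exact (IsScalarTower.toAlgHom k (B ⧸ q) E).comp (Ideal.Quotient.mkₐ k q)

/-- **A torus over a field is split over a finite Galois extension.** -/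
theorem exists_gbasis (k : Type u) [Field k] (A : Type u) [CommRing A] [HopfAlgebra k A]
    (hT : Red.IsTorus (SpecOver k A)) :
    ∃ (K : Type u) (_ : Field K) (_ : Algebra k K) (_ : FiniteDimensional k K) (_ : IsGalois k K) (r : ℕ),
      Nonempty (GBasis K (K ⊗[k] A) (TorusEtLoc920.Mu.{u} r)) := by
  obtain ⟨B, _, v, r, hv, ⟨y, hy⟩, hsp⟩ :=
    TorusEtLoc920.exists_etale_split_specOver hT (IsLocalRing.closedPoint k)
  obtain ⟨ψ, hψ⟩ := Spec.map_surjective v
  let _ : Algebra k B := ψ.hom.toAlgebra
  have hv' : v = Spec.map (CommRingCat.ofHom (algebraMap k B)) := hψ.symm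
  subst hv'
  have h1 : Algebra.Etale k B := by
    rw [HasRingHomProperty.Spec_iff (P := @Etale)] at hv
    exact RingHom.etale_algebraMap.mp hv
  have h2 : Nontrivial B := by
    by_contra hcon
    have : Subsingleton B := not_nontrivial_iff_subsingleton.mp hcon
    have h3 : IsEmpty (PrimeSpectrum B) := inferInstance
    exact h3.false y
  obtain ⟨g⟩ := (TorusEtLoc920.isSplit_iff r).mp hsp
  obtain ⟨K, _, _, _, _, ⟨φ⟩⟩ := exists_galois k B
  exact ⟨K, inferInstance, inferInstance, inferInstance, inferInstance, r, ⟨g.bc φ⟩⟩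

lemma mu_eq_one {r : ℕ} (m : TorusEtLoc920.Mu.{u} r)
    (h : ∀ c : TorusEtLoc920.Mu.{u} r →* Multiplicative ℤ, c m = 1) : m = 1 := by
  apply ULift.ext
  apply Multiplicative.toAdd.injective
  funext i
  exact congrArg Multiplicative.toAdd (h ((AddMonoidHom.toMultiplicative
    (Pi.evalAddMonoidHom (fun _ : Fin r => ℤ) i)).comp
      (MulEquiv.ulift (α := Multiplicative (Fin r → ℤ))).toMonoidHom))

/-- Every non-zero function on a torus over an infinite field is non-zero at a rational point. -/
theorem exists_algHom_ne_zero (k : Type u) [Field k] [Infinite k] (A : Type u) [CommRing A] [HopfAlgebra k A]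
    (hT : Red.IsTorus (SpecOver k A)) (f : A) (hf : f ≠ 0) : ∃ φ : A →ₐ[k] k, φ f ≠ 0 := by
  obtain ⟨K, _, _, _, _, r, ⟨g⟩⟩ := exists_gbasis k A hT
  exact TorDense.exists_algHom_ne_zero g mu_eq_one f hf

/-- A function on `Spec A` whose restriction along `t : T ⟶ Spec A` vanishes at the rational points of the torus
`T` vanishes at all points of `T`. -/
theorem eq_zero_of_forall_point {k : Type u} [Field k] [Infinite k] {T : Over (Spec (CommRingCat.of k))} [GrpObj T]
    (hT : Red.IsTorus T) {A : Type u} [CommRing A] [Algebra k A] (t : T ⟶ SpecOver k A) (f : A)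
    (h : ∀ x : SpecOver k k ⟶ T, specPreimage k (x ≫ t) f = 0) {C : Type u} [CommRing C] [Algebra k C]
    (x : SpecOver k C ⟶ T) : specPreimage k (x ≫ t) f = 0 := by
  have haff : IsAffine T.left := by
    have := TorusAlgClosed.isAffineHom_of_isTorus hT
    exact isAffine_of_isAffineHom T.hom
  obtain ⟨A', _, _, e, he⟩ := exists_hopf k T
  have hT' : Red.IsTorus (SpecOver k A') := TorusBc.isTorus_of_iso (Grp.mkIso' e) hT
  let τ : A →ₐ[k] A' := specPreimage k (e.inv ≫ t)
  have key : ∀ {C : Type u} [CommRing C] [Algebra k C] (x : SpecOver k C ⟶ T),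
      specPreimage k (x ≫ t) = (specPreimage k (x ≫ e.hom)).comp τ := by
    intro C _ _ x
    apply specMap_injective k
    rw [specMap_comp, specMap_specPreimage, specMap_specPreimage, specMap_specPreimage, Category.assoc,
      Iso.hom_inv_id_assoc]
  have h1 : τ f = 0 := by
    by_contra h2
    obtain ⟨φ, hφ⟩ := exists_algHom_ne_zero k A' hT' (τ f) h2
    apply hφ
    have h3 := h (specMap k φ ≫ e.inv)
    rw [key, Category.assoc, Iso.inv_hom_id, Category.comp_id, specPreimage_specMap] at h3
    exact h3
  rw [key]
  change specPreimage k (x ≫ e.hom) (τ f) = 0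
  rw [h1, map_zero]

end Groth.Agent.Agf.H606.TorDenseSch
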